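import Cfsg.Agent.EqLemmas
import Cfsg.Agent.Lib.G2Oct.Model
import Cfsg.Agent.Lib.TwoCover.GTwo
import Mathlib.FieldTheory.IsAlgClosed.Basic

/-!
# Eigenvalues of automorphisms of Zorn's algebra

* `Spec`: an element of `SL₃` with its three roots
* `exists_spec`: over an algebraically closed field of characteristic two an automorphism, or its
  square if it is conjugate into `SL₃ . 2` only, has roots `1, 1, a, b, c, a⁻¹, b⁻¹, c⁻¹` with `a b c = 1`
-/

set_option autoImplicit false

namespace Cfsg.Agent.G2Oct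

open Cfsg.Lie Cfsg.Agent.G2Zorn Polynomial
open scoped Matrix

variable {K : Type*} [Field K]

/-- The three roots and their inverses, with two ones. -/
def roots8 (a b c : Kˣ) : Multiset K :=
  ({1, 1, (a : K), (b : K), (c : K)} : Multiset K) + {((a⁻¹ : Kˣ) : K), ((b⁻¹ : Kˣ) : K), ((c⁻¹ : Kˣ) : K)}

theorem exists_roots_three [IsAlgClosed K] (A : Matrix (Fin 3) (Fin 3) K) (hA : A.det = 1) :
    ∃ a b c : Kˣ, a * b * c = 1 ∧ A.charpoly = (X - C (a : K)) * (X - C (b : K)) * (X - C (c : K)) := by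
  have hsp := IsAlgClosed.splits A.charpoly
  have h := hsp.eq_prod_roots_of_monic (Matrix.charpoly_monic A)
  have hcard : A.charpoly.roots.card = 3 := by
    rw [← hsp.natDegree_eq_card_roots, Matrix.charpoly_natDegree_eq_dim, Fintype.card_fin]
  obtain ⟨a, b, c, e⟩ := Multiset.card_eq_three.1 hcard
  have hd := Matrix.det_eq_prod_roots_charpoly (A := A)
  rw [hA, e] at hd
  simp only [Multiset.insert_eq_cons, Multiset.prod_cons, Multiset.prod_singleton] at hd
  have ha : a ≠ 0 := by rintro rfl; simp at hd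
  have hb : b ≠ 0 := by rintro rfl; simp at hd
  have hc : c ≠ 0 := by rintro rfl; simp at hd
  refine ⟨Units.mk0 a ha, Units.mk0 b hb, Units.mk0 c hc, Units.ext (by simp [hd, mul_assoc]), ?_⟩
  rw [h, e]
  simp [mul_assoc]

theorem charpoly_three_inv [IsAlgClosed K] {A B : Matrix (Fin 3) (Fin 3) K} (hBA : B * A = 1) (hA : A.det = 1)
    {a b c : Kˣ} (habc : a * b * c = 1)
    (h : A.charpoly = (X - C (a : K)) * (X - C (b : K)) * (X - C (c : K))) :
    B.charpoly = (X - C ((a⁻¹ : Kˣ) : K)) * (X - C ((b⁻¹ : Kˣ) : K)) * (X - C ((c⁻¹ : Kˣ) : K)) := by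
  refine Polynomial.eq_of_infinite_eval_eq _ _ (Set.Infinite.mono (s := {x : K | x ≠ 0}) ?_ ?_)
  · intro x hx
    simp only [Set.mem_setOf_eq] at hx ⊢
    rw [Matrix.eval_charpoly]
    have e1 : (Matrix.scalar (Fin 3) x - B).det = (x • A - 1).det := by
      have : (Matrix.scalar (Fin 3) x - B) * A = x • A - 1 := by
        rw [sub_mul, hBA, Matrix.scalar_apply, ← Matrix.smul_one_eq_diagonal, smul_mul_assoc, one_mul]
      rw [← this, Matrix.det_mul, hA, mul_one]
    have e2 : x • A - 1 = (-x) • (Matrix.scalar (Fin 3) x⁻¹ - A) := by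
      rw [Matrix.scalar_apply, ← Matrix.smul_one_eq_diagonal, smul_sub, smul_smul, neg_mul,
        mul_inv_cancel₀ hx, neg_smul, neg_smul, one_smul]
      abel
    rw [e1, e2, Matrix.det_smul, ← Matrix.eval_charpoly, h, Fintype.card_fin]
    simp only [eval_mul, eval_sub, eval_X, eval_C, Units.val_inv_eq_inv_val]
    have hu : (a : K) * b * c = 1 := by rw [← Units.val_mul, ← Units.val_mul, habc, Units.val_one]
    field_simp [a.ne_zero, b.ne_zero, c.ne_zero]
    linear_combination -((1 - x * (a : K)) * (1 - x * (b : K)) * (1 - x * (c : K))) * hu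
  · exact Set.Finite.infinite_compl (s := {(0 : K)}) (Set.finite_singleton 0)

/-- The eight coordinates in blocks. -/
def blockEquiv : (Fin 1 ⊕ Fin 3) ⊕ (Fin 3 ⊕ Fin 1) ≃ Fin 8 where
  toFun := Sum.elim (Sum.elim ![0] ![1, 2, 3]) (Sum.elim ![4, 5, 6] ![7])
  invFun := ![.inl (.inl 0), .inl (.inr 0), .inl (.inr 1), .inl (.inr 2), .inr (.inl 0), .inr (.inl 1),
    .inr (.inl 2), .inr (.inr 0)]
  left_inv := by decide
  right_inv := by decide

theorem cross3_units (j : Fin 3) : ∃ u v : Fin 3 → K, cross3 u v = Pi.single j 1 :=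
  TwoCover.exists_cross_eq (by intro h; simpa using congrFun h j)

/-- The characteristic polynomial on the stabiliser of the split idempotent. -/
theorem charpoly_stab [IsAlgClosed K] (g : stab (F := K)) {a b c : Kˣ} (habc : a * b * c = 1)
    (h : (amat g).charpoly = (X - C (a : K)) * (X - C (b : K)) * (X - C (c : K))) :
    (((g : G2 K) : GL (Fin 8) K) : M8 K).charpoly = ((roots8 a b c).map fun x => X - C x).prod := by
  set A := amat g
  have hu : IsUnit A.det := by rw [det_amat]; exact isUnit_one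
  set B : Matrix (Fin 3) (Fin 3) K := (A⁻¹)ᵀ with hB
  have hBA : B * Aᵀ = 1 := by rw [hB, ← Matrix.transpose_mul, Matrix.mul_nonsing_inv _ hu, Matrix.transpose_one]
  have hb : ∀ u, sact g (Zv 0 0 u 0) = Zv 0 0 (B *ᵥ u) 0 := by
    intro u
    have key : ∀ p q : Fin 3 → K, sact g (Zv 0 0 (cross3 p q) 0) = Zv 0 0 (B *ᵥ cross3 p q) 0 := by
      intro p q
      have e := congrArg (B *ᵥ ·) (TwoCover.cross3_mulVec A p q)
      simp only [Matrix.mulVec_mulVec, hBA, Matrix.one_mulVec, show A.det = 1 from det_amat g, one_smul] at e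
      rw [sact_B, e]
    rcases eq_or_ne u 0 with rfl | hu0
    · rw [Matrix.mulVec_zero, show Zv (0 : K) 0 0 0 = 0 by funext i; fin_cases i <;> simp [Zv]]
      simp [act]
    obtain ⟨p, q, e⟩ := TwoCover.exists_cross_eq hu0
    rw [← e, key]
  have h0 : act ((g : G2 K) : GL (Fin 8) K) e₀ = e₀ := g.2
  have h7 : sact g (Zv 0 0 0 1) = Zv 0 0 0 1 := by
    have e : Zv (0 : K) 0 0 1 = oneZ - e₀ := by funext i; fin_cases i <;> simp [Zv, oneZ, e₀]
    rw [e]
    simp only [sact, act, Matrix.mulVec_sub]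
    exact congrArg₂ (· - ·) (act_one _) h0
  have hcol : ∀ k, ((((g : G2 K) : GL (Fin 8) K) : M8 K)) *ᵥ Pi.single k 1 =
      fun i => (Matrix.fromBlocks (Matrix.fromBlocks 1 0 0 A) 0 0 (Matrix.fromBlocks B 0 0 1))
        (blockEquiv.symm i) (blockEquiv.symm k) := by
    intro k
    show sact g (Pi.single k 1) = _
    obtain ⟨k, rfl⟩ := blockEquiv.surjective k
    simp only [Equiv.symm_apply_apply]
    rcases k with (k | k) | (k | k)
    · obtain rfl : k = 0 := Subsingleton.elim _ _
      rw [show (Pi.single (blockEquiv (Sum.inl (Sum.inl 0))) 1 : Fin 8 → K) = e₀ by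
        funext i; fin_cases i <;> simp [blockEquiv, e₀, Zv], show sact g e₀ = e₀ from h0]
      funext i; fin_cases i <;> simp [blockEquiv, e₀, Zv]
    · rw [show (Pi.single (blockEquiv (Sum.inl (Sum.inr k))) 1 : Fin 8 → K) = Zv 0 (Pi.single k 1) 0 0 by
        funext i; fin_cases k <;> fin_cases i <;> simp [blockEquiv, Zv], sact_A, Matrix.mulVec_single_one]
      funext i; fin_cases i <;> simp [blockEquiv, Zv, A]
    · rw [show (Pi.single (blockEquiv (Sum.inr (Sum.inl k))) 1 : Fin 8 → K) = Zv 0 0 (Pi.single k 1) 0 by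
        funext i; fin_cases k <;> fin_cases i <;> simp [blockEquiv, Zv], hb, Matrix.mulVec_single_one]
      funext i; fin_cases i <;> simp [blockEquiv, Zv]
    · obtain rfl : k = 0 := Subsingleton.elim _ _
      rw [show (Pi.single (blockEquiv (Sum.inr (Sum.inr 0))) 1 : Fin 8 → K) = Zv 0 0 0 1 by
        funext i; fin_cases i <;> simp [blockEquiv, Zv], h7]
      funext i; fin_cases i <;> simp [blockEquiv, Zv]
  have hM : (((g : G2 K) : GL (Fin 8) K) : M8 K) = Matrix.reindex blockEquiv blockEquiv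
      (Matrix.fromBlocks (Matrix.fromBlocks 1 0 0 A) 0 0 (Matrix.fromBlocks B 0 0 1)) := by
    ext i k
    have e := congrFun (hcol k) i
    rw [Matrix.mulVec_single_one] at e
    exact e
  rw [hM, Matrix.charpoly_reindex, Matrix.charpoly_fromBlocks_zero₁₂, Matrix.charpoly_fromBlocks_zero₁₂,
    Matrix.charpoly_fromBlocks_zero₁₂, Matrix.charpoly_one, hB, Matrix.charpoly_transpose, h,
    charpoly_three_inv (Matrix.nonsing_inv_mul _ hu) (det_amat g) habc h, Fintype.card_fin]
  simp only [roots8, Multiset.insert_eq_cons, Multiset.map_add, Multiset.map_cons, Multiset.map_singleton,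
    Multiset.prod_add, Multiset.prod_cons, Multiset.prod_singleton, map_one]
  ring

/-- Roots of an element of the stabiliser. -/
theorem exists_roots_stab [IsAlgClosed K] (g : stab (F := K)) :
    ∃ a b c : Kˣ, a * b * c = 1 ∧ (amat g).charpoly = (X - C (a : K)) * (X - C (b : K)) * (X - C (c : K)) ∧
      (((g : G2 K) : GL (Fin 8) K) : M8 K).charpoly.roots = roots8 a b c := by
  obtain ⟨a, b, c, habc, h⟩ := exists_roots_three (amat g) (det_amat g)
  refine ⟨a, b, c, habc, h, ?_⟩
  rw [charpoly_stab g habc h, Polynomial.roots_multiset_prod_X_sub_C]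

theorem pow_eq_one_of_amat {g : stab (F := K)} {n : ℕ} (h : amat g ^ n = 1) : g ^ n = 1 := by
  apply stabHom_injective
  rw [map_pow, map_one]
  exact Subtype.ext (by rw [Matrix.SpecialLinearGroup.coe_pow, Matrix.SpecialLinearGroup.coe_one]; exact h)

theorem zN_add_oneZ (x : Fin 8 → K) (z : K) :
    TwoCover.zN (x + z • oneZ) = TwoCover.zN x + z * (x 0 + x 7) + z * z := by
  obtain ⟨α, a, b, β, rfl⟩ : ∃ α a b β, x = Zv α a b β := ⟨_, _, _, _, eq_Zv x⟩
  have e : Zv α a b β + z • oneZ = Zv (α + z) a b (β + z) := by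
    funext i; fin_cases i <;> simp [Zv, oneZ]
  rw [e, TwoCover.zN_Zv, TwoCover.zN_Zv, Zv_zero, Zv_seven]
  ring

/-- In characteristic two an automorphism is conjugate into the stabiliser of the split idempotent or interchanges
the idempotent with its complement. -/
theorem exists_conj [IsAlgClosed K] [CharP K 2] (g : G2 K) :
    ∃ h : G2 K, act ((h * g * h⁻¹ : G2 K) : GL (Fin 8) K) e₀ = e₀ ∨
      act ((h * g * h⁻¹ : G2 K) : GL (Fin 8) K) e₀ = oneZ - e₀ := by
  have h2 : (2 : K) = 0 := CharTwo.two_eq_zero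
  obtain ⟨x, htx, r, hr⟩ := TwoCover.exists_affine_fixed g
  obtain ⟨z, hz⟩ := IsAlgClosed.exists_root (X ^ 2 + X + C (TwoCover.zN x) : K[X]) (by
    rw [show (X ^ 2 + X + C (TwoCover.zN x) : K[X]) = C 1 * X ^ 2 + C 1 * X + C (TwoCover.zN x) by simp,
      degree_quadratic one_ne_zero]
    decide)
  simp only [IsRoot.def, eval_add, eval_pow, eval_X, eval_C] at hz
  have hy : x + z • oneZ ∈ Idem K := by
    show _ ∧ _
    refine ⟨?_, ?_⟩
    · simp [oneZ, Zv]; linear_combination htx + z * h2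
    · have : TwoCover.zN (x + z • oneZ) = 0 := by
        rw [zN_add_oneZ, htx]; linear_combination hz
      rw [TwoCover.zN, sub_eq_zero] at this
      exact this
  have hr01 : r = 0 ∨ r = -1 := by
    have e := (TwoCover.trace_norm_act g x).2
    rw [hr, zN_add_oneZ, htx] at e
    have : r * (r + 1) = 0 := by linear_combination e
    rcases mul_eq_zero.1 this with h | h
    · exact Or.inl h
    · exact Or.inr (eq_neg_of_add_eq_zero_left h)
  obtain ⟨k, hk⟩ := exists_act_eq hy
  refine ⟨k⁻¹, ?_⟩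
  have key : act ((k⁻¹ * g * k⁻¹⁻¹ : G2 K) : GL (Fin 8) K) e₀ = e₀ + r • oneZ := by
    refine act_injective (k : GL (Fin 8) K) ?_
    rw [← act_mul, inv_inv, show k * (k⁻¹ * g * k) = g * k by group, act_mul, hk]
    simp only [act, Matrix.mulVec_add, Matrix.mulVec_smul] at hr hk ⊢
    rw [hr, hk, show (g : GL (Fin 8) K).val *ᵥ oneZ = oneZ from act_one g,
      show (k : GL (Fin 8) K).val *ᵥ oneZ = oneZ from act_one k, add_right_comm]
  rcases hr01 with rfl | rfl
  · left; rw [key]; simp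
  · right; rw [key]
    funext i
    simp only [Pi.add_apply, Pi.smul_apply, Pi.sub_apply, smul_eq_mul, oneZ, e₀]
    fin_cases i <;> simp [Zv]
    linear_combination -h2

/-- The square of an element interchanging the idempotents fixes a further vector of `A`. -/
theorem exists_root_one [CharP K 2] (g : G2 K) (h0 : act (g : GL (Fin 8) K) e₀ = oneZ - e₀) (hs : g ^ 2 ∈ stab (F := K)) :
    (amat (⟨g ^ 2, hs⟩ : stab (F := K)) - 1).det = 0 := by
  have hsw : act ((swap (F := K) * g : G2 K) : GL (Fin 8) K) e₀ = e₀ := by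
    rw [act_mul, h0, act_swap]
    show swapLin (oneZ - e₀) = e₀
    rw [oneZ, e₀, show (Zv (1 : K) 0 0 1 - Zv 1 0 0 0) = Zv 0 0 0 1 by funext i; fin_cases i <;> simp [Zv], swapLin_Zv]
    funext i; fin_cases i <;> simp [Zv]
  set s : stab (F := K) := ⟨swap * g, hsw⟩
  set A := amat s
  have hu : IsUnit A.det := by rw [det_amat]; exact isUnit_one
  have hB : ∀ p q : Fin 3 → K, cross3 (A *ᵥ p) (A *ᵥ q) = (A⁻¹)ᵀ *ᵥ cross3 p q := by
    intro p q
    have e := congrArg ((A⁻¹)ᵀ *ᵥ ·) (TwoCover.cross3_mulVec A p q)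
    simp only [Matrix.mulVec_mulVec, show A.det = 1 from det_amat s, one_smul, ← Matrix.transpose_mul, Matrix.mul_nonsing_inv _ hu,
      Matrix.transpose_one, Matrix.one_mulVec] at e
    exact e
  have hg : g = swap * (s : G2 K) := by
    show g = swap * (swap * g)
    rw [← mul_assoc, show (swap (F := K)) * swap = 1 from ?_, one_mul]
    refine Subtype.ext (Units.ext (Matrix.toLin'.injective (LinearMap.ext fun x => ?_)))
    show act ((swap * swap : G2 K) : GL (Fin 8) K) x = (1 : M8 K) *ᵥ x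
    rw [act_mul, act_swap, act_swap, Matrix.one_mulVec]
    exact LinearMap.congr_fun swapLin_swapLin x
  have hneg : ∀ u : Fin 3 → K, -u = u := fun u => funext fun i => CharTwo.neg_eq (u i)
  have hamat : ∀ u, amat (⟨g ^ 2, hs⟩ : stab (F := K)) *ᵥ u = ((A⁻¹)ᵀ * A) *ᵥ u := by
    intro u
    have e := sact_A (⟨g ^ 2, hs⟩ : stab (F := K)) u
    have hg2 : sact (⟨g ^ 2, hs⟩ : stab (F := K)) (Zv 0 u 0 0) =
        act (g : GL (Fin 8) K) (act (g : GL (Fin 8) K) (Zv 0 u 0 0)) := by
      show act ((g ^ 2 : G2 K) : GL (Fin 8) K) _ = _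
      rw [pow_two, act_mul]
    have step : ∀ w, act (g : GL (Fin 8) K) w = swapLin (sact s w) := fun w => by
      rw [hg, act_mul, act_swap]
    rw [hg2, step (Zv 0 u 0 0), sact_A, swapLin_Zv, hneg, hneg, step] at e
    rcases eq_or_ne (A *ᵥ u) 0 with h | h
    · have hu0 : u = 0 := by
        have e' := congrArg (A⁻¹ *ᵥ ·) h
        simpa [Matrix.mulVec_mulVec, Matrix.nonsing_inv_mul _ hu] using e'
      subst hu0
      simp
    obtain ⟨p, q, hpq⟩ := TwoCover.exists_cross_eq h
    rw [← hpq, sact_B, hB, hpq, swapLin_Zv, hneg, hneg, Matrix.mulVec_mulVec] at e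
    exact ((Zv_eq_iff.1 e).2.1).symm
  have hM : amat (⟨g ^ 2, hs⟩ : stab (F := K)) = (A⁻¹)ᵀ * A :=
    Matrix.toLin'.injective (LinearMap.ext fun u => hamat u)
  rw [hM, show (A⁻¹)ᵀ * A - 1 = (A⁻¹)ᵀ * (A - Aᵀ) by
    rw [mul_sub, ← Matrix.transpose_mul, Matrix.mul_nonsing_inv _ hu, Matrix.transpose_one],
    Matrix.det_mul]
  refine mul_eq_zero_of_right _ ?_
  rw [Matrix.det_fin_three]
  simp only [Matrix.sub_apply, Matrix.transpose_apply]
  ring

/-- The square of an interchanging element is in the stabiliser. -/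
theorem sq_mem_stab (g : G2 K) (h0 : act (g : GL (Fin 8) K) e₀ = oneZ - e₀) : g ^ 2 ∈ stab (F := K) := by
  show act _ e₀ = e₀
  rw [pow_two, act_mul, h0]
  show _ *ᵥ (oneZ - e₀) = e₀
  rw [Matrix.mulVec_sub]
  show act (g : GL (Fin 8) K) oneZ - act (g : GL (Fin 8) K) e₀ = e₀
  rw [act_one, h0]
  abel

theorem exists_roots_sq [IsAlgClosed K] [CharP K 2] (g : G2 K) (h0 : act (g : GL (Fin 8) K) e₀ = oneZ - e₀) :
    ∃ l : Kˣ, (amat (⟨g ^ 2, sq_mem_stab g h0⟩ : stab (F := K))).charpoly =
      (X - C (1 : K)) * (X - C (l : K)) * (X - C ((l⁻¹ : Kˣ) : K)) ∧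
      (((g ^ 2 : G2 K) : GL (Fin 8) K) : M8 K).charpoly.roots = roots8 1 l l⁻¹ := by
  classical
  set s : stab (F := K) := ⟨g ^ 2, sq_mem_stab g h0⟩
  obtain ⟨a, b, c, habc, h, hr⟩ := exists_roots_stab s
  have hd := exists_root_one g h0 (sq_mem_stab g h0)
  have he : (amat s).charpoly.eval 1 = 0 := by
    rw [Matrix.eval_charpoly, map_one, ← neg_sub, Matrix.det_neg]
    exact mul_eq_zero_of_right _ hd
  rw [h] at he
  simp only [eval_mul, eval_sub, eval_X, eval_C, mul_eq_zero, sub_eq_zero] at he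
  rcases he with (e | e) | e <;> obtain rfl := (Units.val_eq_one.1 e.symm)
  · obtain rfl : c = b⁻¹ := eq_inv_of_mul_eq_one_right (by simpa using habc)
    exact ⟨b, by simpa using h, hr⟩
  · obtain rfl : c = a⁻¹ := eq_inv_of_mul_eq_one_right (by simpa using habc)
    refine ⟨a, ?_, ?_⟩
    · rw [h, Units.val_one]; ring
    · refine hr.trans (Multiset.ext.2 fun x => ?_)
      simp [roots8, Multiset.count_cons, Multiset.count_singleton]
      omega
  · obtain rfl : b = a⁻¹ := eq_inv_of_mul_eq_one_right (by simpa using habc)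
    refine ⟨a, ?_, ?_⟩
    · rw [h, Units.val_one]; ring
    · refine hr.trans (Multiset.ext.2 fun x => ?_)
      simp [roots8, Multiset.count_cons, Multiset.count_singleton]
      omega

end Cfsg.Agent.G2Oct
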