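import Cfsg.Agent.EqLemmas
import Cfsg.Agent.Lib.G2Oct.Spectrum
import Mathlib.FieldTheory.IsAlgClosed.AlgebraicClosure

/-!
# Element orders of `G₂(2^a)`: the upper bound

* `orderOf_dvd_mem`: every order divides one of `8`, `12`, `2(q+1)`, `2(q-1)`, `q²-1`, `q²+q+1`, `q²-q+1`
-/

set_option autoImplicit false

namespace Cfsg.Agent.G2Oct

open Cfsg.Lie Cfsg.Agent.G2Zorn Polynomial

variable {K : Type*} [Field K] [CharP K 2]

theorem units_eq_one_of_sq {x : Kˣ} (h : x * x = 1) : x = 1 := by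
  refine Units.ext ?_
  have e : ((x : K) - 1) * ((x : K) - 1) = 0 := by
    have h' := congrArg Units.val h
    rw [Units.val_mul, Units.val_one] at h'
    linear_combination h' + (1 - (x : K)) * CharTwo.two_eq_zero (R := K)
  exact sub_eq_zero.1 (mul_self_eq_zero.1 e)

theorem frob_injective (a : ℕ) {x y : Kˣ} (h : x ^ 2 ^ a = y ^ 2 ^ a) : x = y := by
  have : ExpChar K 2 := ExpChar.prime Nat.prime_two
  refine Units.ext (iterateFrobenius_inj K 2 a ?_)
  rw [iterateFrobenius_def, iterateFrobenius_def, ← Units.val_pow_eq_pow_val, h, Units.val_pow_eq_pow_val]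

/-- A matrix killed by a polynomial with roots among the `N`th roots of unity. -/
theorem pow_eq_one_of_dvd {n : Type*} [Fintype n] [DecidableEq n] (A : Matrix n n K) {N j : ℕ}
    (h : A.charpoly ∣ (X ^ N - 1) ^ 2 ^ j) : A ^ (N * 2 ^ j) = 1 := by
  obtain ⟨Q, hQ⟩ := h
  have e : ((X : K[X]) ^ N - 1) ^ 2 ^ j = X ^ (N * 2 ^ j) - 1 := by
    have : CharP K[X] 2 := inferInstance
    rw [sub_pow_char_pow, one_pow, ← pow_mul]
  rw [e] at hQ
  have := congrArg (aeval A) hQ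
  rw [map_sub, map_mul, map_one, map_pow, aeval_X, Matrix.aeval_self_charpoly, zero_mul, sub_eq_zero] at this
  exact this

theorem X_sub_C_dvd {x : Kˣ} {N : ℕ} (h : x ^ N = 1) : X - C (x : K) ∣ X ^ N - 1 := by
  rw [dvd_iff_isRoot]
  simp [← Units.val_pow_eq_pow_val, h]

theorem isCoprime_X_sub {x y : Kˣ} (h : x ≠ y) : IsCoprime (X - C (x : K)) (X - C (y : K)) :=
  isCoprime_X_sub_C_of_isUnit_sub (sub_ne_zero.2 fun e => h (Units.ext e)).isUnit

theorem pow_eq_one_of_distinct {A : Matrix (Fin 3) (Fin 3) K} {a b c : Kˣ} {N : ℕ}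
    (h : A.charpoly = (X - C (a : K)) * (X - C (b : K)) * (X - C (c : K)))
    (hab : a ≠ b) (hac : a ≠ c) (hbc : b ≠ c) (ha : a ^ N = 1) (hb : b ^ N = 1) (hc : c ^ N = 1) : A ^ N = 1 := by
  have := pow_eq_one_of_dvd A (N := N) (j := 0) (by
    rw [h, pow_zero, pow_one]
    exact ((isCoprime_X_sub hac).mul_left (isCoprime_X_sub hbc)).mul_dvd
      ((isCoprime_X_sub hab).mul_dvd (X_sub_C_dvd ha) (X_sub_C_dvd hb)) (X_sub_C_dvd hc))
  simpa using this

theorem pow_eq_one_of_double {A : Matrix (Fin 3) (Fin 3) K} {a c : Kˣ} {N : ℕ}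
    (h : A.charpoly = (X - C (a : K)) * (X - C (a : K)) * (X - C (c : K)))
    (hac : a ≠ c) (ha : a ^ N = 1) (hc : c ^ N = 1) : A ^ (N * 2) = 1 := by
  refine pow_eq_one_of_dvd A (N := N) (j := 1) ?_
  rw [h, pow_one]
  refine Dvd.dvd.trans ⟨X - C (c : K), ?_⟩ (pow_dvd_pow_of_dvd ((isCoprime_X_sub hac).mul_dvd (X_sub_C_dvd ha) (X_sub_C_dvd hc)) 2)
  ring

theorem pow_eq_one_of_triple {A : Matrix (Fin 3) (Fin 3) K} {a : Kˣ} {N : ℕ}
    (h : A.charpoly = (X - C (a : K)) * (X - C (a : K)) * (X - C (a : K))) (ha : a ^ N = 1) :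
    A ^ (N * 4) = 1 := by
  refine pow_eq_one_of_dvd A (N := N) (j := 2) ?_
  rw [h]
  refine Dvd.dvd.trans ⟨X - C (a : K), ?_⟩ (pow_dvd_pow_of_dvd (X_sub_C_dvd ha) (2 ^ 2))
  norm_num
  ring

/-- The seven bounds. -/
def Bound (q N : ℕ) : Prop :=
  N = 8 ∨ N = 12 ∨ N = 2 * (q + 1) ∨ N = 2 * (q - 1) ∨ N = q ^ 2 - 1 ∨ N = q ^ 2 + q + 1 ∨ N = q ^ 2 - q + 1

theorem sq_pow_case {x : Kˣ} {q : ℕ} (h : (x ^ q) ^ q = x) : x ^ (q ^ 2 - 1) = 1 := by
  rw [← pow_mul, ← pow_two] at h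
  rcases Nat.eq_zero_or_pos (q ^ 2) with e | e
  · simp [e]
  · rw [← mul_left_inj x, ← pow_succ, Nat.sub_add_cancel e, h, one_mul]

theorem pm_case {x : Kˣ} {q : ℕ} (hq : 1 ≤ q) (h : x ^ q = x ∨ x ^ q = x⁻¹) :
    x ^ (q - 1) = 1 ∨ x ^ (q + 1) = 1 := by
  rcases h with h | h
  · left; rw [← mul_left_inj x, ← pow_succ, Nat.sub_add_cancel hq, h, one_mul]
  · right; rw [pow_succ, h, inv_mul_cancel]

section Core

variable {a : ℕ} {x y z : Kˣ}

/-- Invariance under the Frobenius map. -/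
def Inv8 (a : ℕ) (x y z : Kˣ) : Prop := (roots8 x y z).map (· ^ 2 ^ a) = roots8 x y z

omit [CharP K 2] in
theorem roots8_swap (x y z : Kˣ) : roots8 x y z = roots8 y x z ∧ roots8 x y z = roots8 x z y := by
  classical
  constructor <;> refine Multiset.ext.2 fun w => ?_ <;>
    simp [roots8, Multiset.count_cons, Multiset.count_singleton] <;> omega

omit [CharP K 2] in
theorem mem_of_inv8 (hI : Inv8 a x y z) {w : Kˣ} (hw : (w : K) ∈ roots8 x y z) :
    w ^ 2 ^ a = 1 ∨ w ^ 2 ^ a = x ∨ w ^ 2 ^ a = y ∨ w ^ 2 ^ a = z ∨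
      w ^ 2 ^ a = x⁻¹ ∨ w ^ 2 ^ a = y⁻¹ ∨ w ^ 2 ^ a = z⁻¹ := by
  have h := Multiset.mem_map_of_mem (· ^ 2 ^ a) hw
  rw [hI] at h
  simp only [roots8, Multiset.insert_eq_cons, Multiset.mem_add, Multiset.mem_cons, Multiset.mem_singleton,
    ← Units.val_pow_eq_pow_val, ← (Units.val_one : ((1 : Kˣ) : K) = 1), ← Units.ext_iff] at h
  rcases h with (e | e | e | e | e) | e | e | e <;> simp only [e, true_or, or_true]

/-- Eigenvalues `1, y, y⁻¹`. -/
theorem core_one (hI : Inv8 a 1 y y⁻¹) (hy : y ≠ 1) {A : Matrix (Fin 3) (Fin 3) K}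
    (h : A.charpoly = (X - C (1 : K)) * (X - C (y : K)) * (X - C ((y⁻¹ : Kˣ) : K))) :
    A ^ (2 ^ a - 1) = 1 ∨ A ^ (2 ^ a + 1) = 1 := by
  have hyy : y ≠ y⁻¹ := fun e => hy (units_eq_one_of_sq (by nth_rw 2 [e]; exact mul_inv_cancel y))
  have hm := mem_of_inv8 hI (w := y) (by simp [roots8])
  have hne : y ^ 2 ^ a ≠ 1 := fun e => hy (frob_injective a (e.trans (one_pow _).symm))
  have hpm : y ^ 2 ^ a = y ∨ y ^ 2 ^ a = y⁻¹ := by
    simp only [inv_one, inv_inv] at hm
    tauto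
  have h' : A.charpoly = (X - C ((1 : Kˣ) : K)) * (X - C (y : K)) * (X - C ((y⁻¹ : Kˣ) : K)) := by
    rw [Units.val_one]; exact h
  rcases pm_case Nat.one_le_two_pow hpm with e | e
  · exact Or.inl (pow_eq_one_of_distinct h' hy.symm (fun e' => hy (inv_eq_one.1 e'.symm)) hyy (one_pow _) e
      (by rw [inv_pow, e, inv_one]))
  · exact Or.inr (pow_eq_one_of_distinct h' hy.symm (fun e' => hy (inv_eq_one.1 e'.symm)) hyy (one_pow _) e
      (by rw [inv_pow, e, inv_one]))

/-- A repeated eigenvalue. -/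
theorem core_double (hI : Inv8 a x x z) (hxz : x * x * z = 1) {A : Matrix (Fin 3) (Fin 3) K}
    (h : A.charpoly = (X - C (x : K)) * (X - C (x : K)) * (X - C (z : K))) :
    ∃ N, Bound (2 ^ a) N ∧ A ^ N = 1 := by
  classical
  have hz : z = (x * x)⁻¹ := eq_inv_of_mul_eq_one_right hxz
  by_cases hx1 : x = 1
  · subst hx1
    obtain rfl : z = 1 := by simpa using hz
    refine ⟨8, Or.inl rfl, ?_⟩
    rw [show 8 = 1 * 4 * 2 from rfl, pow_mul, pow_eq_one_of_triple h (one_pow 1), one_pow]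
  by_cases hx3 : x ^ 3 = 1
  · obtain rfl : z = x := by
      rw [hz, inv_eq_iff_mul_eq_one, ← pow_two, ← pow_succ]; exact hx3
    exact ⟨12, Or.inr (Or.inl rfl), pow_eq_one_of_triple h hx3⟩
  have hne_z : x ≠ z := fun e => hx3 (by rw [pow_succ, pow_two]; nth_rw 3 [e]; exact hxz)
  have hxi : x ≠ x⁻¹ := fun e => hx1 (units_eq_one_of_sq (by nth_rw 2 [e]; exact mul_inv_cancel x))
  have hne : x ^ 2 ^ a ≠ 1 := fun e => hx1 (frob_injective a (e.trans (one_pow _).symm))
  -- the double root goes to a double root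
  have hc := Multiset.count_map_eq_count' (fun w : K => w ^ 2 ^ a) (roots8 x x z) (fun u v e => by
    have : ExpChar K 2 := ExpChar.prime Nat.prime_two
    exact iterateFrobenius_inj K 2 a (by rw [iterateFrobenius_def, iterateFrobenius_def]; exact e)) (x : K)
  rw [hI] at hc
  have hx2 : 2 ≤ (roots8 x x z).count (x : K) := by
    simp [roots8, Multiset.count_cons, Multiset.count_singleton]
    omega
  rw [← hc, ← Units.val_pow_eq_pow_val] at hx2
  have hz1 : z ≠ 1 := fun e => hx1 (units_eq_one_of_sq (by simpa [e] using hxz))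
  have hzi : z ≠ z⁻¹ := fun e => hz1 (units_eq_one_of_sq (by nth_rw 2 [e]; exact mul_inv_cancel z))
  have hxzi : x ≠ z⁻¹ := fun e => hx1 (by
    have : x * x * z = x := by rw [mul_assoc]; nth_rw 2 [e]; rw [inv_mul_cancel, mul_one]
    rw [← this, hxz])
  have hpm : x ^ 2 ^ a = x ∨ x ^ 2 ^ a = x⁻¹ := by
    rcases mem_of_inv8 hI (w := x) (by simp [roots8]) with e | e | e | e | e | e | e
    · exact absurd e hne
    · exact Or.inl e
    · exact Or.inl e
    · exfalso
      rw [e] at hx2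
      simp [roots8, Multiset.count_cons, Multiset.count_singleton, ← Units.val_inv_eq_inv_val,
        Units.val_eq_one, ← Units.ext_iff, hne_z.symm, hzi, hz1, ne_comm.1 (inv_ne_one.2 hz1),
        show z ≠ x⁻¹ from fun e' => hxzi (by rw [e', inv_inv])] at hx2
    · exact Or.inr e
    · exact Or.inr e
    · exfalso
      rw [e] at hx2
      simp [roots8, Multiset.count_cons, Multiset.count_singleton, ← Units.val_inv_eq_inv_val,
        Units.val_eq_one, ← Units.ext_iff, hz1, inv_ne_one.2 hz1, hxzi.symm, hzi.symm,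
        show z⁻¹ ≠ x⁻¹ from fun e' => hne_z (inv_inj.1 e').symm] at hx2
  rcases pm_case Nat.one_le_two_pow hpm with e | e
  · refine ⟨_, Or.inr (Or.inr (Or.inr (Or.inl rfl))), ?_⟩
    rw [mul_comm]
    exact pow_eq_one_of_double h hne_z e (by rw [hz, inv_pow, mul_pow, e, one_mul, inv_one])
  · refine ⟨_, Or.inr (Or.inr (Or.inl rfl)), ?_⟩
    rw [mul_comm]
    exact pow_eq_one_of_double h hne_z e (by rw [hz, inv_pow, mul_pow, e, one_mul, inv_one])

/-- Regular eigenvalues. -/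
theorem core_regular (hI : Inv8 a x y z) (hxyz : x * y * z = 1) (hxy : x ≠ y) (hxz : x ≠ z) (hyz : y ≠ z)
    (hx : x ≠ 1) (hy : y ≠ 1) (hz : z ≠ 1) {A : Matrix (Fin 3) (Fin 3) K}
    (h : A.charpoly = (X - C (x : K)) * (X - C (y : K)) * (X - C (z : K))) :
    ∃ N, Bound (2 ^ a) N ∧ A ^ N = 1 := by
  set q := 2 ^ a with hq
  let T : Fin 3 → Kˣ := ![x, y, z]
  have hprod : ∀ i j k : Fin 3, i ≠ j → j ≠ k → i ≠ k → T i * T j * T k = 1 := by
    intro i j k h1 h2 h3
    rw [← hxyz]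
    fin_cases i <;> fin_cases j <;> fin_cases k <;> first
      | exact absurd rfl h1 | exact absurd rfl h2 | exact absurd rfl h3 | (simp [T, mul_comm, mul_left_comm]; done)
  have hT1 : ∀ i, T i ≠ 1 := by intro i; fin_cases i <;> assumption
  have hTinj : ∀ i j, T i = T j → i = j := by
    intro i j e
    fin_cases i <;> fin_cases j <;> simp_all [T]
  have hTinv : ∀ i j, T i ≠ (T j)⁻¹ := by
    intro i j e
    rcases eq_or_ne i j with rfl | hij
    · exact hT1 i (units_eq_one_of_sq (by nth_rw 2 [e]; exact mul_inv_cancel _))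
    · obtain ⟨k, hk1, hk2⟩ := (by decide : ∀ i j : Fin 3, ∃ k, k ≠ i ∧ k ≠ j) i j
      refine hT1 k ?_
      have := hprod i j k hij hk2.symm hk1.symm
      rwa [e, inv_mul_cancel, one_mul] at this
  have hex : ∀ i, ∃ k : Fin 3, ∃ b : Bool, T i ^ q = if b then T k else (T k)⁻¹ := by
    intro i
    have hmem : ((T i : Kˣ) : K) ∈ roots8 x y z := by fin_cases i <;> simp [T, roots8]
    rcases mem_of_inv8 hI hmem with e | e | e | e | e | e | e
    · exact absurd (frob_injective a (e.trans (one_pow _).symm)) (hT1 i)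
    · exact ⟨0, true, e⟩
    · exact ⟨1, true, e⟩
    · exact ⟨2, true, e⟩
    · exact ⟨0, false, e⟩
    · exact ⟨1, false, e⟩
    · exact ⟨2, false, e⟩
  choose π b hπ using hex
  have hπinj : Function.Injective π := by
    intro i j e
    by_contra hij
    rcases Bool.eq_or_eq_not (b i) (b j) with eb | eb
    · refine hij (hTinj i j (frob_injective a ?_))
      rw [hπ i, hπ j, e, eb]
    · refine hTinv i j (frob_injective a ?_)
      rw [inv_pow, hπ i, hπ j, e, eb]
      cases b j <;> simp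
  have hπd : π 0 ≠ π 1 ∧ π 1 ≠ π 2 ∧ π 0 ≠ π 2 := by
    refine ⟨?_, ?_, ?_⟩ <;> exact fun e => absurd (hπinj e) (by decide)
  have hb : b 0 = b 1 ∧ b 1 = b 2 := by
    have e : T 0 ^ q * T 1 ^ q * T 2 ^ q = 1 := by
      rw [← mul_pow, ← mul_pow, hprod 0 1 2 (by decide) (by decide) (by decide), one_pow]
    rw [hπ, hπ, hπ] at e
    have hp := hprod _ _ _ hπd.1 hπd.2.1 hπd.2.2
    have key : ∀ u v w : Kˣ, u * v * w = 1 → (u * v * w⁻¹ = 1 ∨ u⁻¹ * v⁻¹ * w = 1) → w = 1 := fun u v w h1 h2 => by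
      have h3 : u * v = w := by
        rcases h2 with h2 | h2
        · exact mul_inv_eq_one.1 h2
        · rw [← mul_inv] at h2
          exact inv_mul_eq_one.1 h2
      exact units_eq_one_of_sq (by rwa [h3] at h1)
    have n0 := hT1 (π 0)
    have n1 := hT1 (π 1)
    have n2 := hT1 (π 2)
    generalize T (π 0) = u at e hp n0
    generalize T (π 1) = v at e hp n1
    generalize T (π 2) = w at e hp n2
    generalize b 0 = b0, b 1 = b1, b 2 = b2 at e ⊢
    cases b0 <;> cases b1 <;> cases b2 <;> simp only [if_true, Bool.false_eq_true, if_false] at e <;> first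
      | exact ⟨rfl, rfl⟩
      | exact absurd (key u v w hp (Or.inl e)) n2
      | exact absurd (key u v w hp (Or.inr e)) n2
      | (refine absurd (key u w v ?_ (Or.inl ?_)) n1
         · rw [← hp]; ac_rfl
         · rw [← e]; ac_rfl)
      | (refine absurd (key u w v ?_ (Or.inr ?_)) n1
         · rw [← hp]; ac_rfl
         · rw [← e]; ac_rfl)
      | (refine absurd (key v w u ?_ (Or.inl ?_)) n0
         · rw [← hp]; ac_rfl
         · rw [← e]; ac_rfl)
      | (refine absurd (key v w u ?_ (Or.inr ?_)) n0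
         · rw [← hp]; ac_rfl
         · rw [← e]; ac_rfl)
  obtain ⟨s, hs⟩ : ∃ s : Bool, ∀ i, T i ^ q = if s then T (π i) else (T (π i))⁻¹ :=
    ⟨b 0, fun i => by
      rw [hπ i]
      fin_cases i <;> simp [hb.1, hb.2]⟩
  have hfin : ∀ N, (∀ i, T i ^ N = 1) → A ^ N = 1 := fun N hN =>
    pow_eq_one_of_distinct h hxy hxz hyz (hN 0) (hN 1) (hN 2)
  have hperm : ∀ f : Fin 3 → Fin 3, f 0 ≠ f 1 ∧ f 1 ≠ f 2 ∧ f 0 ≠ f 2 →
      (∀ i, f (f i) = i) ∨ (∀ i, i ≠ f i ∧ f i ≠ f (f i) ∧ i ≠ f (f i)) := by decide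
  have h2 : ∀ i, (T i ^ q) ^ q = T (π (π i)) := by
    intro i
    cases s <;> simp [hs]
  rcases hperm π hπd with hp | hp
  · exact ⟨_, Or.inr (Or.inr (Or.inr (Or.inr (Or.inl rfl)))), hfin _ fun i => sq_pow_case (by rw [h2, hp])⟩
  · have hq1 : 1 ≤ q := Nat.one_le_two_pow
    have h3 : ∀ i, T i ^ q ^ 2 * T i = (T (π i))⁻¹ := fun i => by
      rw [eq_inv_iff_mul_eq_one, pow_two, pow_mul, h2]
      exact hprod _ _ _ (hp i).2.2.symm (hp i).1 (hp i).2.1.symm
    cases s
    · refine ⟨q ^ 2 - q + 1, Or.inr (Or.inr (Or.inr (Or.inr (Or.inr (Or.inr rfl))))), hfin _ fun i => ?_⟩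
      rw [← mul_left_inj (T i ^ q), one_mul, ← pow_add,
        show q ^ 2 - q + 1 + q = q ^ 2 + 1 by have : q ≤ q ^ 2 := Nat.le_self_pow two_ne_zero q; omega,
        pow_succ, h3, hs]
      simp
    · refine ⟨q ^ 2 + q + 1, Or.inr (Or.inr (Or.inr (Or.inr (Or.inr (Or.inl rfl))))), hfin _ fun i => ?_⟩
      rw [show q ^ 2 + q + 1 = q ^ 2 + 1 + q by ring, pow_add, pow_succ, h3, hs]
      simp

/-- The bound for an element of `SL₃`. -/
theorem core (hI : Inv8 a x y z) (hxyz : x * y * z = 1) {A : Matrix (Fin 3) (Fin 3) K}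
    (h : A.charpoly = (X - C (x : K)) * (X - C (y : K)) * (X - C (z : K))) :
    ∃ N, Bound (2 ^ a) N ∧ A ^ N = 1 := by
  by_cases hxy : x = y
  · subst hxy; exact core_double hI hxyz h
  by_cases hxz : x = z
  · subst hxz
    refine core_double (x := x) (z := y) ?_ (by rw [← hxyz]; ac_rfl) (by rw [h]; ring)
    rw [Inv8, ← (roots8_swap x y x).2]; exact hI
  by_cases hyz : y = z
  · subst hyz
    refine core_double (x := y) (z := x) ?_ (by rw [← hxyz]; ac_rfl) (by rw [h]; ring)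
    have e : roots8 y y x = roots8 x y y := ((roots8_swap x y y).1.trans (roots8_swap y x y).2).symm
    rw [Inv8, e]; exact hI
  have one_case : ∀ w : Kˣ, w ≠ 1 → Inv8 a 1 w w⁻¹ →
      A.charpoly = (X - C (1 : K)) * (X - C (w : K)) * (X - C ((w⁻¹ : Kˣ) : K)) →
      ∃ N, Bound (2 ^ a) N ∧ A ^ N = 1 := fun w hw hI' h' => by
    rcases core_one hI' hw h' with e | e
    · exact ⟨_, Or.inr (Or.inr (Or.inr (Or.inl rfl))), by rw [mul_comm, pow_mul, e, one_pow]⟩
    · exact ⟨_, Or.inr (Or.inr (Or.inl rfl)), by rw [mul_comm, pow_mul, e, one_pow]⟩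
  by_cases hx : x = 1
  · subst hx
    obtain rfl : z = y⁻¹ := eq_inv_of_mul_eq_one_right (by simpa using hxyz)
    exact one_case y (Ne.symm hxy) hI (by simpa using h)
  by_cases hy : y = 1
  · subst hy
    obtain rfl : z = x⁻¹ := eq_inv_of_mul_eq_one_right (by simpa using hxyz)
    refine one_case x hxy ?_ (by rw [h, Units.val_one]; ring)
    rw [Inv8, ← (roots8_swap x 1 x⁻¹).1]; exact hI
  by_cases hz : z = 1
  · subst hz
    obtain rfl : y = x⁻¹ := eq_inv_of_mul_eq_one_right (by simpa using hxyz)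
    refine one_case x hxz ?_ (by rw [h, Units.val_one]; ring)
    have e : roots8 1 x x⁻¹ = roots8 x x⁻¹ 1 := ((roots8_swap x x⁻¹ 1).2.trans (roots8_swap x 1 x⁻¹).1).symm
    rw [Inv8, e]; exact hI
  exact core_regular hI hxyz hxy hxz hyz hx hy hz h

end Core

/-! ### The group -/

variable {F : Type*} [Field F] [Fintype F]

theorem charTwo_of_card {a : ℕ} (hF : Fintype.card F = 2 ^ a) : CharP F 2 := by
  obtain ⟨p, hp⟩ := CharP.exists F
  obtain ⟨n, hpr, hn⟩ := FiniteField.card F p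
  rw [hF] at hn
  have : p ∣ 2 ^ a := hn ▸ dvd_pow_self p n.pos.ne'
  rw [(Nat.prime_dvd_prime_iff_eq hpr Nat.prime_two).1 (hpr.dvd_of_dvd_pow this)] at hp
  exact hp

theorem frob_roots {K : Type*} [Field K] [IsAlgClosed K] [CharP K 2] (ι : F →+* K) {a : ℕ}
    (hF : Fintype.card F = 2 ^ a) (M : M8 F) :
    (M.map ι).charpoly.roots.map (· ^ 2 ^ a) = (M.map ι).charpoly.roots := by
  classical
  have : ExpChar K 2 := ExpChar.prime Nat.prime_two
  set σ := iterateFrobenius K 2 a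
  set P := (M.map ι).charpoly
  have hP : P.map σ = P := by
    have hσ : σ.comp ι = ι := RingHom.ext fun t => by
      rw [RingHom.comp_apply, iterateFrobenius_def, ← map_pow, ← hF, FiniteField.pow_card]
    show (M.map ι).charpoly.map σ = _
    rw [Matrix.charpoly_map, Polynomial.map_map, hσ, ← Matrix.charpoly_map]
  have hle := Polynomial.map_roots_le_of_injective P (iterateFrobenius_inj K 2 a)
  rw [hP] at hle
  have e : P.roots.map σ = P.roots := Multiset.eq_of_le_of_card_le hle (by rw [Multiset.card_map])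
  exact (Multiset.map_congr rfl fun u _ => (iterateFrobenius_def (R := K) 2 a u).symm).trans e

/-- Every element order divides one of the seven bounds. -/
theorem orderOf_dvd_mem {a : ℕ} (hF : Fintype.card F = 2 ^ a) (g : G2 F) :
    ∃ N, Bound (2 ^ a) N ∧ orderOf g ∣ N := by
  have : CharP F 2 := charTwo_of_card hF
  let K := AlgebraicClosure F
  let ι := algebraMap F K
  have : CharP K 2 := charP_of_injective_algebraMap ι.injective 2
  suffices ∃ N, Bound (2 ^ a) N ∧ (mapZ ι g) ^ N = 1 by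
    obtain ⟨N, hN, e⟩ := this
    exact ⟨N, hN, orderOf_dvd_of_pow_eq_one (mapZ_injective ι (by rw [map_pow, e, map_one]))⟩
  obtain ⟨h, hh⟩ := exists_conj (mapZ ι g)
  suffices ∃ N, Bound (2 ^ a) N ∧ (h * mapZ ι g * h⁻¹) ^ N = 1 by
    obtain ⟨N, hN, e⟩ := this
    exact ⟨N, hN, by rwa [conj_pow, conj_eq_one_iff] at e⟩
  have hrt : ∀ m : ℕ, ((((h * mapZ ι g * h⁻¹) ^ m : G2 K) : GL (Fin 8) K) : M8 K).charpoly.roots.map (· ^ 2 ^ a) =
      ((((h * mapZ ι g * h⁻¹) ^ m : G2 K) : GL (Fin 8) K) : M8 K).charpoly.roots := by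
    intro m
    rw [conj_pow, ← map_pow, Subgroup.coe_mul, Subgroup.coe_mul, Subgroup.coe_inv, Units.val_mul, Units.val_mul,
      Matrix.coe_units_inv, Matrix.charpoly_units_conj, coe_mapZ]
    exact frob_roots ι hF _
  rcases hh with hh | hh
  · set s : stab (F := K) := ⟨h * mapZ ι g * h⁻¹, hh⟩
    obtain ⟨x, y, z, hxyz, hA, hR⟩ := exists_roots_stab s
    have hI : Inv8 a x y z := by
      have e := hrt 1
      rw [pow_one] at e
      rw [Inv8, ← hR]; exact e
    obtain ⟨N, hN, e⟩ := core hI hxyz hA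
    exact ⟨N, hN, congrArg Subtype.val (pow_eq_one_of_amat e)⟩
  · obtain ⟨l, hA, hR⟩ := exists_roots_sq _ hh
    set s : stab (F := K) := ⟨(h * mapZ ι g * h⁻¹) ^ 2, sq_mem_stab _ hh⟩
    have hI : Inv8 a 1 l l⁻¹ := by rw [Inv8, ← hR]; exact hrt 2
    have fin : ∀ m, amat s ^ m = 1 → (h * mapZ ι g * h⁻¹) ^ (2 * m) = 1 := fun m e => by
      rw [pow_mul]; exact congrArg Subtype.val (pow_eq_one_of_amat e)
    by_cases hl : l = 1
    · subst hl
      refine ⟨2 * 4, Or.inl rfl, fin 4 ?_⟩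
      have e := pow_eq_one_of_triple (A := amat s) (a := (1 : Kˣ)) (N := 1) (by simpa using hA) (one_pow 1)
      simpa using e
    rcases core_one hI hl hA with e | e
    · exact ⟨_, Or.inr (Or.inr (Or.inr (Or.inl rfl))), fin _ e⟩
    · exact ⟨_, Or.inr (Or.inr (Or.inl rfl)), fin _ e⟩

end Cfsg.Agent.G2Oct
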