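import Cfsg.Agent.EqLemmas
import Cfsg.Agent.Lib.G2Oct.Orders
import Cfsg.Agent.Lib.ChevG2SL3.Singer
import Cfsg.Agent.Lib.ChevLang.Torsion
import Cfsg.Agent.Lib.ChevLang.Cert
import Cfsg.Agent.Lib.ChevInvolOdd.RankOne
import Cfsg.Agent.Lib.GLOrder.Torus
import Cfsg.Agent.Lib.ChevSt.Centre
import Cfsg.Agent.Lib.ChevBN.RootTables
import Cfsg.Agent.Lib.ChevSt.Extra

/-!
# Element orders of `G₂(2^a)`: existence

* `exists_eight`, `exists_twelve`, `exists_two_mul_succ`, `exists_two_mul_pred`, `exists_sq_sub_one`,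
  `exists_sq_add`, `exists_sq_sub`
-/

set_option autoImplicit false
set_option maxRecDepth 100000

namespace Cfsg.Agent.G2Oct

open Cfsg.Lie Cfsg.Lie.ChevalleyDatum Cfsg.Agent.Chev Cfsg.Agent.ChevBN Cfsg.Agent.G2Zorn Cfsg.Agent.Chev.RankOne
open scoped MatrixGroups

variable {F : Type*} [Field F]

/-- A root element of the group. -/
noncomputable def gx (r : Fin 12) (t : F) : chevG2.group F := ⟨xgen F r t, xg_mem_group _ _ _⟩

theorem rho_gx (r : Fin 12) (t : F) : (((rho (gx r t)) : GL (Fin 8) F) : M8 F) = rootA r t := by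
  exact congrArg Units.val (rho_xg r t (xg_mem_group DataG2.good _ _))

theorem orderOf_eq_rho (g : chevG2.group F) : orderOf (((rho g : G2 F) : GL (Fin 8) F) : M8 F) = orderOf g := by
  rw [orderOf_units, Subgroup.orderOf_coe, orderOf_injective _ rho_injective]

section CharTwo

variable [CharP F 2]

/-- The entries with odd sums. -/
def norm2 (L : Entries) : Entries :=
  (List.range 8).flatMap fun i => (List.range 8).flatMap fun j =>
    if ((L.filter fun e => e.1 == i && e.2.1 == j).map fun e => e.2.2).sum % 2 = 0 then [] else [(i, j, 1)]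

/-- The identity. -/
def idE : Entries := (List.range 8).map fun i => (i, i, 1)

/-- A word at the parameter one, modulo two. -/
def wordE : List (Fin 12) → Entries
  | [] => idE
  | r :: w => norm2 (lmul (idE ++ nE r ++ pE r) (wordE w))

/-- Equality modulo two. -/
def eq2 (L L' : Entries) : Bool := (List.range 8).all fun i => (List.range 8).all fun j =>
  (((lsub L L').filter fun e => e.1 == i && e.2.1 == j).map fun e => e.2.2).sum % 2 == 0

theorem castM_eq_of_eq2 {L L' : Entries} (h : eq2 L L' = true) : (castM (ofE L) : M8 F) = castM (ofE L') := by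
  ext i j
  simp only [eq2, List.all_eq_true, List.mem_range, beq_iff_eq] at h
  have e := h i.val i.isLt j.val j.isLt
  rw [← ofE_apply, ofE_sub, Matrix.sub_apply] at e
  simp only [castM, Matrix.map_apply, eq_intCast]
  rw [← sub_eq_zero, ← Int.cast_sub, CharP.intCast_eq_zero_iff F 2]
  exact Int.dvd_of_emod_eq_zero e

theorem ofE_norm2 : ∀ L : Entries, eq2 (norm2 L) L = true → (castM (ofE (norm2 L)) : M8 F) = castM (ofE L) :=
  fun _ h => castM_eq_of_eq2 h

omit [CharP F 2] in
theorem castM_idE : (castM (ofE idE) : M8 F) = 1 := by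
  have : ofE idE = 1 := by decide +kernel
  rw [this]; exact Matrix.map_one _ (map_zero _) (map_one _)

/-- The checks behind the products of a word. -/
def wordOK : List (Fin 12) → Bool
  | [] => true
  | r :: w => wordOK w && colOK (idE ++ nE r ++ pE r) &&
      eq2 (norm2 (lmul (idE ++ nE r ++ pE r) (wordE w))) (lmul (idE ++ nE r ++ pE r) (wordE w))

theorem rho_word : ∀ w : List (Fin 12), wordOK w = true →
    (((rho ((w.map fun r => gx r (1 : F)).prod)) : GL (Fin 8) F) : M8 F) = castM (ofE (wordE w))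
  | [], _ => by simp [wordE, castM_idE]
  | r :: w, h => by
    simp only [wordOK, Bool.and_eq_true] at h
    rw [List.map_cons, List.prod_cons, map_mul, Subgroup.coe_mul, Units.val_mul, rho_gx, rho_word w h.1.1,
      wordE, ofE_norm2 _ h.2, ofE_lmul _ _ h.1.2, castM_mul, ofE_append, ofE_append, castM_add, castM_add, castM_idE,
      rootA, one_smul, one_pow, one_smul]
    rfl

theorem castM_ne_one {L : Entries} (h : eq2 L idE = false) : (castM (ofE L) : M8 F) ≠ 1 := by
  intro e
  rw [← castM_idE (F := F)] at e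
  have : eq2 L idE = true := by
    simp only [eq2, List.all_eq_true, List.mem_range, beq_iff_eq]
    intro i hi j hj
    have e' := congrFun (congrFun e ⟨i, hi⟩) ⟨j, hj⟩
    simp only [castM, Matrix.map_apply, eq_intCast] at e'
    rw [← sub_eq_zero, ← Int.cast_sub, CharP.intCast_eq_zero_iff F 2] at e'
    rw [show ((List.filter (fun e => e.1 == i && e.2.1 == j) (lsub L idE)).map fun e => e.2.2).sum =
      (ofE (lsub L idE)) ⟨i, hi⟩ ⟨j, hj⟩ from (ofE_apply _ ⟨i, hi⟩ ⟨j, hj⟩).symm, ofE_sub]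
    exact Int.emod_eq_zero_of_dvd e'
  rw [h] at this
  exact Bool.noConfusion this

theorem sq_entries {M : M8 F} {L L2 : Entries} (hM : M = castM (ofE L)) (hc : colOK L = true)
    (h : eq2 L2 (lmul L L) = true) : M ^ 2 = castM (ofE L2) := by
  rw [castM_eq_of_eq2 h, ofE_lmul _ _ hc, castM_mul, pow_two, hM]

/-- The first word. -/
def w8 : Entries := wordE [0, 8]
/-- Its square. -/
def w8s : Entries := norm2 (lmul w8 w8)
/-- Its fourth power. -/
def w8f : Entries := norm2 (lmul w8s w8s)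
/-- The second word. -/
def w12' : Entries := wordE [0, 2, 9]
/-- Its square. -/
def w12s : Entries := norm2 (lmul w12' w12')
/-- Its cube. -/
def w12c : Entries := norm2 (lmul w12s w12')
/-- Its fourth power. -/
def w12f : Entries := norm2 (lmul w12s w12s)
/-- Its sixth power. -/
def w12x : Entries := norm2 (lmul w12c w12c)

theorem facts8 : (wordOK [0, 8] && colOK w8 && colOK w8s && colOK w8f && eq2 w8s (lmul w8 w8) &&
    eq2 w8f (lmul w8s w8s) && !eq2 w8f idE && eq2 idE (lmul w8f w8f)) = true := by decide +kernel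

theorem facts12 : (wordOK [0, 2, 9] && colOK w12' && colOK w12s && colOK w12c && colOK w12x && eq2 w12s (lmul w12' w12') &&
    eq2 w12c (lmul w12s w12') && eq2 w12f (lmul w12s w12s) && eq2 w12x (lmul w12c w12c) && !eq2 w12f idE &&
    !eq2 w12x idE && eq2 idE (lmul w12x w12x)) = true := by decide +kernel

theorem exists_eight : ∃ g : chevG2.group F, orderOf g = 8 := by
  have h := facts8
  simp only [Bool.and_eq_true, Bool.not_eq_true'] at h
  obtain ⟨⟨⟨⟨⟨⟨⟨hw, c1⟩, c2⟩, c4⟩, e2⟩, e4⟩, n4⟩, e8⟩ := h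
  refine ⟨(([0, 8] : List (Fin 12)).map fun r => gx r (1 : F)).prod, ?_⟩
  rw [← orderOf_eq_rho, rho_word _ hw]
  have p2 := sq_entries (F := F) rfl c1 e2
  have p4 : (castM (ofE w8) : M8 F) ^ 4 = castM (ofE w8f) := by
    rw [show 4 = 2 * 2 from rfl, pow_mul, p2, sq_entries rfl c2 e4]
  refine orderOf_eq_prime_pow (p := 2) (n := 2) ?_ ?_
  · show ¬ castM (ofE w8) ^ 4 = (1 : M8 F)
    rw [p4]; exact castM_ne_one n4
  · show castM (ofE w8) ^ (4 * 2) = (1 : M8 F)
    rw [pow_mul, p4, sq_entries rfl c4 e8, castM_idE]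

theorem exists_twelve : ∃ g : chevG2.group F, orderOf g = 12 := by
  have h := facts12
  simp only [Bool.and_eq_true, Bool.not_eq_true'] at h
  obtain ⟨⟨⟨⟨⟨⟨⟨⟨⟨⟨⟨hw, c1⟩, c2⟩, c3⟩, c6⟩, e2⟩, e3⟩, e4⟩, e6⟩, n4⟩, n6⟩, e12⟩ := h
  refine ⟨(([0, 2, 9] : List (Fin 12)).map fun r => gx r (1 : F)).prod, ?_⟩
  rw [← orderOf_eq_rho, rho_word _ hw]
  set M : M8 F := castM (ofE w12') with hM
  have p2 := sq_entries (F := F) hM c1 e2
  have p4 : M ^ 4 = castM (ofE w12f) := by rw [show 4 = 2 * 2 from rfl, pow_mul, p2, sq_entries rfl c2 e4]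
  have p3 : M ^ 3 = castM (ofE w12c) := by
    rw [pow_succ, p2, castM_eq_of_eq2 e3, ofE_lmul _ _ c2, castM_mul]
  have p6 : M ^ 6 = castM (ofE w12x) := by rw [show 6 = 3 * 2 from rfl, pow_mul, p3, sq_entries rfl c3 e6]
  have p12 : M ^ 12 = 1 := by rw [show 12 = 6 * 2 from rfl, pow_mul, p6, sq_entries rfl c6 e12, castM_idE]
  show orderOf M = 12
  refine orderOf_eq_of_pow_and_pow_div_prime (by norm_num) p12 fun p hp hd => ?_
  have : p = 2 ∨ p = 3 := by
    rcases (Nat.Prime.dvd_mul hp).1 (show p ∣ 2 ^ 2 * 3 from hd) with h | h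
    · exact Or.inl ((Nat.prime_dvd_prime_iff_eq hp Nat.prime_two).1 (hp.dvd_of_dvd_pow h))
    · exact Or.inr ((Nat.prime_dvd_prime_iff_eq hp Nat.prime_three).1 h)
  rcases this with rfl | rfl
  · rw [show 12 / 2 = 6 from rfl, p6]; exact castM_ne_one n6
  · rw [show 12 / 3 = 4 from rfl, p4]; exact castM_ne_one n4

theorem gx_sq (r : Fin 12) (t : F) : gx r t ^ 2 = 1 := by
  refine Subtype.ext ?_
  rw [pow_two]
  show xgen F r t * xgen F r t = 1
  rw [xgen, xg_add DataG2.good r.isLt, CharTwo.add_self_eq_zero, xg_zero]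

theorem gx_ne_one (r : Fin 12) (t : F) (ht : t ≠ 0) : gx r t ≠ 1 := fun e => by
  have e' : xg DataG2.good F r.val t = xg DataG2.good F r.val 0 := by
    rw [xg_zero]; exact congrArg Subtype.val e
  exact ht (ChevInvolOdd.xg_param_inj DataG2.good r.isLt e')

end CharTwo

/-! ### The short `SL₂` -/

/-- The short root subgroups as `SL₂`. -/
noncomputable def shortSL : SL(2, F) →* chevG2.group F :=
  (sl2Hom DataG2.good (show 7 < chevG2.nroots by decide)).codRestrict _
    fun A => ChevInvolOdd.sl2Hom_mem_group DataG2.good _ A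

theorem shortSL_slX (t : F) : shortSL (slX t) = gx 7 t :=
  Subtype.ext (sl2Hom_slX DataG2.good _ t)

theorem shortSL_slY (t : F) : shortSL (slY t) = gx 4 t :=
  Subtype.ext ((sl2Hom_slY DataG2.good _ t).trans (by rw [show chevG2.neg 7 = 4 by decide +kernel]; rfl))

theorem shortSL_col (A : SL(2, F)) : ∀ u v : F,
    (((rho (shortSL A) : G2 F) : GL (Fin 8) F) : M8 F).mulVec (Pi.single 5 u + Pi.single 3 (-v)) =
      Pi.single 5 (A.1 0 0 * u + A.1 0 1 * v) + Pi.single 3 (-(A.1 1 0 * u + A.1 1 1 * v)) := by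
  let P : SL(2, F) → Prop := fun A => ∀ u v : F,
    (((rho (shortSL A) : G2 F) : GL (Fin 8) F) : M8 F).mulVec (Pi.single 5 u + Pi.single 3 (-v)) =
      Pi.single 5 (A.1 0 0 * u + A.1 0 1 * v) + Pi.single 3 (-(A.1 1 0 * u + A.1 1 1 * v))
  show P A
  have hmul : ∀ A B, P A → P B → P (A * B) := by
    intro A B hA hB u v
    rw [map_mul, map_mul, Subgroup.coe_mul, Units.val_mul, ← Matrix.mulVec_mulVec, hB u v, hA]
    simp only [Matrix.SpecialLinearGroup.coe_mul, Matrix.mul_apply, Fin.sum_univ_two]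
    congr 2 <;> ring
  have hx : ∀ t, P (slX t) := by
    intro t u v
    rw [shortSL_slX, rho_gx]
    funext i
    fin_cases i <;> simp [rootA, castM, nZ, pZ, nE, pE, dList, pList, ofE_apply, Matrix.mulVec, dotProduct,
      Fin.sum_univ_eight, slX, Matrix.one_apply] <;> ring
  have hy : ∀ t, P (slY t) := by
    intro t u v
    rw [shortSL_slY, rho_gx]
    funext i
    fin_cases i <;> simp [rootA, castM, nZ, pZ, nE, pE, dList, pList, ofE_apply, Matrix.mulVec, dotProduct,
      Fin.sum_univ_eight, slY, Matrix.one_apply] <;> ring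
  have hne : ∀ g : SL(2, F), g.1 1 0 ≠ 0 → P g := fun g hc => by
    rw [eq_xyx g hc]; exact hmul _ _ (hmul _ _ (hx _) (hy _)) (hx _)
  by_cases hc : A.1 1 0 = 0
  · have h1 : (A * slY 1).1 1 0 ≠ 0 := by rw [mul_slY_c A hc]; exact (ne_zero_of_c A hc).2
    have e : A = A * slY 1 * slY (-1) := by
      rw [mul_assoc, show slY (1 : F) * slY (-1) = 1 from ?_, mul_one]
      apply Subtype.ext
      simp only [Matrix.SpecialLinearGroup.coe_mul, Matrix.SpecialLinearGroup.coe_one]
      ext i j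
      fin_cases i <;> fin_cases j <;> simp [slY, Matrix.mul_apply, Fin.sum_univ_two]
    rw [e]; exact hmul _ _ (hne _ h1) (hy _)
  · exact hne A hc

theorem shortSL_injective : Function.Injective (shortSL (F := F)) := by
  refine (injective_iff_map_eq_one _).2 fun A hA => ?_
  have h := fun u v => shortSL_col A u v
  simp only [hA, map_one, OneMemClass.coe_one, Units.val_one, Matrix.one_mulVec] at h
  have a1 := congrFun (h 1 0) 5
  have a2 := congrFun (h 1 0) 3
  have a3 := congrFun (h 0 1) 5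
  have a4 := congrFun (h 0 1) 3
  simp at a1 a2 a3 a4
  apply Subtype.ext
  ext i j
  fin_cases i <;> fin_cases j <;> simp [← a1, ← a2, ← a3, ← a4]

theorem commute_long (A : SL(2, F)) (s : F) : Commute (gx 11 s) (shortSL A) := by
  have hd : chevG2.commTerms 7 11 = [] ∧ chevG2.commTerms 4 11 = [] ∧ chevG2.neg 7 = 4 ∧ chevG2.neg 4 = 7 := by
    decide +kernel
  have hg : ∀ r : Fin 12, chevG2.commTerms r.val 11 = [] → 11 ≠ r.val → 11 ≠ chevG2.neg r.val → ∀ t : F,
      Commute (gx 11 s) (gx r t) := by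
    intro r h h1 h2 t
    refine Subtype.ext ?_
    have e := ChevSt.xg_commutator F DataG2.good (r := r.val) (s := 11) r.isLt (by decide) h1 h2 t s
    simp only [ChevalleyDatum.commWord, h, List.map_nil, List.prod_nil, mul_one] at e
    exact e
  let P : SL(2, F) → Prop := fun A => Commute (gx 11 s) (shortSL A)
  show P A
  have hmul : ∀ A B, P A → P B → P (A * B) := fun A B hA hB => by
    show Commute _ _; rw [map_mul]; exact hA.mul_right hB
  have hx : ∀ t, P (slX t) := fun t => by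
    show Commute _ _; rw [shortSL_slX]; exact hg 7 hd.1 (by decide) (by rw [show ((7 : Fin 12)).val = 7 from rfl, hd.2.2.1]; decide) t
  have hy : ∀ t, P (slY t) := fun t => by
    show Commute _ _; rw [shortSL_slY]; exact hg 4 hd.2.1 (by decide) (by rw [show ((4 : Fin 12)).val = 4 from rfl, hd.2.2.2]; decide) t
  have hne : ∀ g : SL(2, F), g.1 1 0 ≠ 0 → P g := fun g hc => by
    rw [eq_xyx g hc]; exact hmul _ _ (hmul _ _ (hx _) (hy _)) (hx _)
  by_cases hc : A.1 1 0 = 0
  · have h1 : (A * slY 1).1 1 0 ≠ 0 := by rw [mul_slY_c A hc]; exact (ne_zero_of_c A hc).2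
    have h2 := hne _ h1
    simp only [P, map_mul] at h2 ⊢
    have e : shortSL A = shortSL A * shortSL (slY 1) * (shortSL (slY 1))⁻¹ := (mul_inv_cancel_right _ _).symm
    rw [e]
    exact h2.mul_right (hy 1).inv_right
  · exact hne A hc

section Fin

variable [Fintype F]

theorem exists_two_mul_succ [CharP F 2] : ∃ g : chevG2.group F, orderOf g = 2 * (Fintype.card F + 1) := by
  obtain ⟨A, hA⟩ := GLOrder.exists_orderOf_SL_two (F := F) (d := Nat.card F + 1) (Or.inr dvd_rfl)
  refine ⟨gx 11 1 * shortSL A, ?_⟩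
  have h2 : orderOf (gx (11 : Fin 12) (1 : F)) = 2 := orderOf_eq_prime (gx_sq _ _) (gx_ne_one _ _ one_ne_zero)
  have hA' : orderOf (shortSL A) = Fintype.card F + 1 := by
    rw [orderOf_injective _ shortSL_injective, hA, Nat.card_eq_fintype_card]
  rw [(commute_long A 1).orderOf_mul_eq_mul_orderOf_of_coprime, h2, hA']
  rw [h2, hA', Nat.coprime_two_left, Nat.odd_iff]
  have := FiniteField.even_card_of_char_two (F := F) (ringChar.eq F 2 ▸ rfl)
  omega

theorem orderOf_gx (p : ℕ) [CharP F p] [Fact p.Prime] (r : Fin 12) {t : F} (ht : t ≠ 0) : orderOf (gx r t) = p := by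
  have hpow : ∀ n : ℕ, xgen F r t ^ n = xg DataG2.good F r.val (n • t) := by
    intro n
    induction n with
    | zero => rw [pow_zero, zero_smul, xg_zero]
    | succ n ih => rw [pow_succ, ih, succ_nsmul, ← xg_add DataG2.good r.isLt]; rfl
  refine orderOf_eq_prime (Subtype.ext ?_) fun e => ?_
  · rw [SubgroupClass.coe_pow]
    show xgen F r t ^ p = 1
    rw [hpow, nsmul_eq_mul, CharP.cast_eq_zero, zero_mul, xg_zero]
  · have e' : xg DataG2.good F r.val t = xg DataG2.good F r.val 0 := by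
      rw [xg_zero]; exact congrArg Subtype.val e
    exact ht (ChevInvolOdd.xg_param_inj DataG2.good r.isLt e')

/-- Elements of order `p * d` for `d` dividing `q - 1` or `q + 1`. -/
theorem exists_char_mul (p : ℕ) [CharP F p] [Fact p.Prime] {d : ℕ}
    (hd : d ∣ Fintype.card F - 1 ∨ d ∣ Fintype.card F + 1) : ∃ g : chevG2.group F, orderOf g = p * d := by
  obtain ⟨A, hA⟩ := GLOrder.exists_orderOf_SL_two (F := F) (d := d) (by rwa [Nat.card_eq_fintype_card])
  refine ⟨gx 11 1 * shortSL A, ?_⟩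
  have h2 := orderOf_gx (F := F) p 11 one_ne_zero
  have hA' : orderOf (shortSL A) = d := by rw [orderOf_injective _ shortSL_injective, hA]
  rw [(commute_long A 1).orderOf_mul_eq_mul_orderOf_of_coprime, h2, hA']
  rw [h2, hA', (Fact.out : p.Prime).coprime_iff_not_dvd]
  intro hpd
  have hpq : p ∣ Fintype.card F := (CharP.cast_eq_zero_iff F p _).1 (FiniteField.cast_card_eq_zero F)
  have hp1 := (Fact.out : p.Prime).not_dvd_one
  have hq := Fintype.one_lt_card (α := F)
  rcases hd with hd | hd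
  · refine hp1 ?_
    have := Nat.dvd_sub hpq (hpd.trans hd)
    rwa [show Fintype.card F - (Fintype.card F - 1) = 1 by omega] at this
  · exact hp1 ((Nat.dvd_add_right hpq).1 (hpd.trans hd))

/-- `SL₃ → G₂`. -/
noncomputable def slThree : SL(3, F) →* chevG2.group F :=
  (ChevG2SL3.phi F).codRestrict _ fun g => ChevG2SL3.phi_mem_group g

theorem slThree_injective : Function.Injective (slThree (F := F)) := fun _ _ h =>
  ChevG2SL3.phi_injective (congrArg Subtype.val h)

/-- `GL₂ → SL₃`. -/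
noncomputable def glTwo : GL (Fin 2) F →* SL(3, F) :=
  MonoidHom.mk' (fun g => ⟨!![g.1 0 0, g.1 0 1, 0; g.1 1 0, g.1 1 1, 0; 0, 0, (g.1.det)⁻¹], by
    have h : g.1.det ≠ 0 := ((Matrix.isUnit_iff_isUnit_det g.1).1 g.isUnit).ne_zero
    simp [Matrix.det_fin_three]
    rw [← sub_mul, ← Matrix.det_fin_two, mul_inv_cancel₀ h]⟩) fun g h => Subtype.ext (by
    show (_ : Matrix (Fin 3) (Fin 3) F) = _ * _
    ext i j
    fin_cases i <;> fin_cases j <;>
      simp [Matrix.SpecialLinearGroup.coe_mul, Matrix.mul_apply, Fin.sum_univ_three, Fin.sum_univ_two, Matrix.det_mul, mul_comm])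

theorem exists_sq_sub_one : ∃ g : chevG2.group F, orderOf g = Fintype.card F ^ 2 - 1 := by
  obtain ⟨g, hg⟩ := GLOrder.exists_cyclic_GL_two (F := F)
  refine ⟨slThree (glTwo g), ?_⟩
  rw [orderOf_injective _ slThree_injective, orderOf_injective _ ?_, hg, Nat.card_eq_fintype_card]
  intro u v e
  have e' := congrArg Subtype.val e
  refine Units.ext ?_
  ext i j
  fin_cases i <;> fin_cases j
  · exact congrFun (congrFun e' 0) 0
  · exact congrFun (congrFun e' 0) 1
  · exact congrFun (congrFun e' 1) 0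
  · exact congrFun (congrFun e' 1) 1

theorem exists_two_mul_pred [CharP F 2] : ∃ g : chevG2.group F, orderOf g = 2 * (Fintype.card F - 1) := by
  obtain ⟨u, hu⟩ := IsCyclic.exists_ofOrder_eq_natCard (α := Fˣ)
  rw [Nat.card_units, Nat.card_eq_fintype_card] at hu
  let d : SL(3, F) := ⟨!![(u : F), 0, 0; 0, (u : F), 0; 0, 0, ((u * u)⁻¹ : Fˣ)], by
    simp [Matrix.det_fin_three]; field_simp⟩
  let t : SL(3, F) := ⟨!![1, 1, 0; 0, 1, 0; 0, 0, 1], by simp [Matrix.det_fin_three]⟩
  have hc : Commute d t := Subtype.ext (by show d.1 * t.1 = t.1 * d.1; ext i j; fin_cases i <;> fin_cases j <;> simp [d, t, Matrix.SpecialLinearGroup.coe_mul, Matrix.mul_apply, Fin.sum_univ_three])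
  have ht : orderOf t = 2 := by
    refine orderOf_eq_prime (Subtype.ext ?_) fun e => by
      have := congrArg (fun g : SL(3, F) => g.1 0 1) e; simp [t] at this
    rw [pow_two, Matrix.SpecialLinearGroup.coe_mul]
    ext i j
    fin_cases i <;> fin_cases j <;> simp [t, Matrix.mul_apply, Fin.sum_univ_three, CharTwo.add_self_eq_zero]
  have hd : orderOf d = Fintype.card F - 1 := by
    rw [← hu]
    let f : Fˣ →* SL(3, F) := MonoidHom.mk' (fun u => ⟨!![(u : F), 0, 0; 0, (u : F), 0; 0, 0, ((u * u)⁻¹ : Fˣ)], by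
      simp [Matrix.det_fin_three]; field_simp⟩) fun a b => Subtype.ext (by
        show (_ : Matrix (Fin 3) (Fin 3) F) = _ * _
        ext i j; fin_cases i <;> fin_cases j <;> simp [Matrix.SpecialLinearGroup.coe_mul, Matrix.mul_apply, Fin.sum_univ_three] <;> ring)
    exact orderOf_injective f (fun a b e => Units.ext (congrArg (fun g : SL(3, F) => g.1 0 0) e)) u
  refine ⟨slThree (d * t), ?_⟩
  rw [orderOf_injective _ slThree_injective, hc.orderOf_mul_eq_mul_orderOf_of_coprime, ht, hd, mul_comm]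
  rw [ht, hd, Nat.coprime_two_right, Nat.odd_iff]
  have := FiniteField.even_card_of_char_two (F := F) (ringChar.eq F 2 ▸ rfl)
  have := Fintype.one_lt_card (α := F)
  omega

theorem exists_sq_add (hq : 3 ≤ Fintype.card F) :
    ∃ g : chevG2.group F, orderOf g = Fintype.card F ^ 2 + Fintype.card F + 1 := by
  obtain ⟨H, hH, hc, -⟩ := ChevG2SL3.exists_torus _ rfl hq
  obtain ⟨g, hg⟩ := IsCyclic.exists_ofOrder_eq_natCard (α := H)
  exact ⟨g, by rw [Subgroup.orderOf_coe, hg, hc]⟩

/-- The matrix of the twisting word. -/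
def twistA : Matrix (Fin 2) (Fin 2) ℤ := !![-1, 1; -3, 2]

/-- The twisting word. -/
def twistW : List (Fin chevG2.rank) := [⟨1, by decide⟩, ⟨0, by decide⟩]

omit [Fintype F] in
theorem twist_table : ∀ i : Fin chevG2.rank, ∀ r < chevG2.nroots,
    ∑ j : Fin chevG2.rank, twistA j i * chevG2.cartan j.val (ChevLang.wl chevG2 twistW r) =
      chevG2.cartan i.val r := by decide +kernel

theorem twist_div (q : ℤ) :
    (∀ (i : Fin 2) (k : Fin 1), q ^ 2 - q + 1 ∣ ((q • twistA - 1 : Matrix (Fin 2) (Fin 2) ℤ) * (!![1 - q; 1 - 2 * q] : Matrix (Fin 2) (Fin 1) ℤ) : Matrix (Fin 2) (Fin 1) ℤ) i k) ∧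
    (∀ j k : Fin 1, q ^ 2 - q + 1 ∣ ((!![q, 0] : Matrix (Fin 1) (Fin 2) ℤ) * (!![1 - q; 1 - 2 * q] : Matrix (Fin 2) (Fin 1) ℤ) : Matrix (Fin 1) (Fin 1) ℤ) j k - if j = k then 1 else 0) := by
  constructor
  · intro i k
    fin_cases i <;> fin_cases k <;> simp [twistA, Matrix.mul_apply, Fin.sum_univ_two] <;> first
      | (refine ⟨0, ?_⟩; ring1) | (refine ⟨1, ?_⟩; ring1) | (refine ⟨-1, ?_⟩; ring1) | (refine ⟨2, ?_⟩; ring1) | (refine ⟨-2, ?_⟩; ring1)
  · intro j k
    fin_cases j; fin_cases k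
    simp [Matrix.mul_apply, Fin.sum_univ_two]
    exact ⟨-1, by ring⟩

theorem exists_sq_sub : ∃ g : chevG2.group F, orderOf g = Fintype.card F ^ 2 - Fintype.card F + 1 := by
  set qn := Fintype.card F
  set m := qn ^ 2 - qn + 1
  have hle : qn ≤ qn ^ 2 := Nat.le_self_pow two_ne_zero qn
  have hmF : (m : F) ≠ 0 := by
    have h0 : (qn : F) = 0 := FiniteField.cast_card_eq_zero F
    rw [Nat.cast_add, Nat.cast_sub hle, Nat.cast_pow, h0]
    simp
  have hm : (m : ℤ) = (qn : ℤ) ^ 2 - qn + 1 := by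
    show ((qn ^ 2 - qn + 1 : ℕ) : ℤ) = _
    push_cast [Nat.cast_sub hle]; ring
  obtain ⟨f, hf⟩ := ChevLang.exists_torus_hom (F := F) DataG2.good rootsG2 twistW twistA twist_table (a := 1) hmF
    (Nat.coprime_one_right m) !![1 - (qn : ℤ); 1 - 2 * (qn : ℤ)] !![(qn : ℤ), 0] 1 isCoprime_one_left
    (fun i k => by rw [hm]; exact (twist_div (qn : ℤ)).1 i k)
    (fun j k => by rw [hm]; exact (twist_div (qn : ℤ)).2 j k)
  let ι : Multiplicative (ZMod m) →* (Fin 1 → Multiplicative (ZMod m)) :=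
    MonoidHom.pi fun _ => MonoidHom.id _
  have hι : Function.Injective ι := fun a b e => congrFun e 0
  refine ⟨f (ι (Multiplicative.ofAdd 1)), ?_⟩
  rw [orderOf_injective f hf, orderOf_injective ι hι, orderOf_ofAdd_eq_addOrderOf, ZMod.addOrderOf_one]

end Fin

end Cfsg.Agent.G2Oct
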